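import Groth.Agent.LocSymLib.PicMod
import Mathlib.RingTheory.RootsOfUnity.AlgebraicallyClosed
import Mathlib.RingTheory.RootsOfUnity.EnoughRootsOfUnity
import Mathlib.GroupTheory.Coset.Card
import Mathlib.GroupTheory.QuotientGroup.Basic

/-! Torsion of the generalised Picard group with a reduced modulus. -/

noncomputable section

set_option linter.unusedSectionVars false

universe u

open CategoryTheory AlgebraicGeometry W4c1etcurveeff2

namespace Groth.Agent.LocSymLib

variable {k : Type u} [Field k] [IsAlgClosed k] {X : Scheme.{u}} [IsIntegral X]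
  {c : X ⟶ Spec (CommRingCat.of k)} [IsProper c] [Smooth c]
  (hdim : topologicalKrullDim X = 1) {m : LocSym.Pt c →₀ ℕ} (hm : ∀ x : LocSym.Pt c, m x ≤ 1)

/-- The class of a function with prescribed values on the modulus. -/
def valClass (v : LocSym.Pt c → kˣ) : PicMod c m :=
  QuotientAddGroup.mk (exists_fun_values hdim (c := c) (m := m) v).choose_spec.choose

include hm in
theorem valClass_eq {D : divAway c m} {g : X.functionField} (hg : IsDivOf c (D : LocSym.Pt c →₀ ℤ) g)
    {v : LocSym.Pt c → kˣ} (hgv : ∀ x ∈ m.support, LocSym.HasValueAt x g (v x : k)) :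
    valClass hdim v = (QuotientAddGroup.mk D : PicMod c m) := by
  obtain ⟨h1, h2⟩ := (exists_fun_values hdim (c := c) (m := m) v).choose_spec.choose_spec
  exact mk_eq_of_values hdim hm h1 hg h2 hgv

include hm in
theorem valClass_add (v w : LocSym.Pt c → kˣ) :
    valClass hdim (v * w) = (valClass hdim v + valClass hdim w : PicMod c m) := by
  obtain ⟨g, D, hD, hg⟩ := exists_fun_values hdim (c := c) (m := m) v
  obtain ⟨h, E, hE, hh⟩ := exists_fun_values hdim (c := c) (m := m) w
  rw [valClass_eq hdim hm hD hg, valClass_eq hdim hm hE hh,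
    valClass_eq hdim hm (D := D + E) (g := g * h) (by simpa using isDivOf_mul hdim hD hE)
      (fun x hx => by simpa using value_mul c hdim x (hg x hx) (hh x hx))]
  rfl

include hm in
theorem valClass_eq_zero_iff (v : LocSym.Pt c → kˣ) :
    (valClass hdim v : PicMod c m) = 0 ↔ ∃ a : kˣ, ∀ x ∈ m.support, v x = a := by
  obtain ⟨g, D, hD, hg⟩ := exists_fun_values hdim (c := c) (m := m) v
  rw [valClass_eq hdim hm hD hg]
  exact mk_eq_zero_iff hdim hm hD hg

include hm in
theorem map_valClass (v : LocSym.Pt c → kˣ) : picModToPic c m (valClass hdim v) = 0 := by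
  obtain ⟨g, D, hD, hg⟩ := exists_fun_values hdim (c := c) (m := m) v
  rw [valClass_eq hdim hm hD hg, picModToPic_eq_zero_iff hdim]
  exact ⟨g, D, v, hD, hg, rfl⟩

include hm in
theorem exists_valClass {y : PicMod c m} (hy : picModToPic c m y = 0) : ∃ v, valClass hdim v = y := by
  obtain ⟨g, D, v, hD, hg, rfl⟩ := (picModToPic_eq_zero_iff hdim y).1 hy
  exact ⟨v, valClass_eq hdim hm hD hg⟩

include hm in
theorem valClass_congr {v w : LocSym.Pt c → kˣ} (h : ∀ x ∈ m.support, v x = w x) :
    (valClass hdim v : PicMod c m) = valClass hdim w := by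
  obtain ⟨g, D, hD, hg⟩ := exists_fun_values hdim (c := c) (m := m) v
  rw [valClass_eq hdim hm hD hg, valClass_eq hdim hm hD (v := w) fun x hx => h x hx ▸ hg x hx]

open Classical in
/-- Values on the modulus to classes. -/
def valHom : ({x // x ∈ m.support} → kˣ) →* Multiplicative (PicMod c m) where
  toFun v := .ofAdd (valClass hdim fun x => if h : x ∈ m.support then v ⟨x, h⟩ else 1)
  map_one' := by
    refine congrArg Multiplicative.ofAdd ((valClass_eq_zero_iff hdim hm _).2 ⟨1, fun x hx => ?_⟩)
    simp [hx]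
  map_mul' v w := by
    rw [← ofAdd_add, ← valClass_add hdim hm]
    refine congrArg Multiplicative.ofAdd (valClass_congr hdim hm fun x hx => ?_)
    simp only [Pi.mul_apply, dif_pos hx]

theorem valHom_eq_zero_iff (v : {x // x ∈ m.support} → kˣ) :
    valHom hdim hm v = 1 ↔ ∃ a : kˣ, ∀ x, v x = a := by
  classical
  show Multiplicative.ofAdd _ = 1 ↔ _
  rw [ofAdd_eq_one, valClass_eq_zero_iff hdim hm]
  refine exists_congr fun a => ⟨fun h x => ?_, fun h x hx => ?_⟩
  · simpa [x.2] using h x.1 x.2
  · simpa [hx] using h ⟨x, hx⟩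

include hdim hm in
theorem exists_nsmul_root (n : ℕ) (hn : 1 ≤ n) {y : PicMod c m} (hy : picModToPic c m y = 0) :
    ∃ z : PicMod c m, n • z = y ∧ picModToPic c m z = 0 := by
  obtain ⟨v, rfl⟩ := exists_valClass hdim hm hy
  choose w hw using fun x => IsAlgClosed.exists_pow_nat_eq (v x : k) (n := n) hn
  have hw0 : ∀ x, w x ≠ 0 := fun x e => (v x).ne_zero (by rw [← hw x, e, zero_pow (by omega)])
  let W : LocSym.Pt c → kˣ := fun x => Units.mk0 (w x) (hw0 x)
  refine ⟨valClass hdim W, ?_, map_valClass hdim hm W⟩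
  have hpow : ∀ j : ℕ, (j • valClass hdim W : PicMod c m) = valClass hdim (W ^ j) := fun j => by
    induction j with
    | zero =>
      rw [zero_nsmul, pow_zero]
      exact ((valClass_eq_zero_iff hdim hm _).2 ⟨1, fun x _ => rfl⟩).symm
    | succ j ih => rw [succ_nsmul, ih, pow_succ, valClass_add hdim hm]
  rw [hpow]
  exact valClass_congr hdim hm fun x _ => Units.ext (hw x)

include hdim hm in
theorem torsion_surjective (n : ℕ) (hn : 1 ≤ n) (y : Pic c) (hy : n • y = 0) :
    ∃ x : PicMod c m, n • x = 0 ∧ picModToPic c m x = y := by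
  obtain ⟨x, rfl⟩ := picModToPic_surjective hdim (c := c) (m := m) y
  obtain ⟨z, hz, hz0⟩ := exists_nsmul_root hdim hm n hn (y := n • x) (by rw [map_nsmul, hy])
  exact ⟨x - z, by rw [nsmul_sub, hz, sub_self], by rw [map_sub, hz0, sub_zero]⟩

include hdim hm in
theorem card_torsion_kernel (n : ℕ) (hn : 1 ≤ n) (hnk : (n : k) ≠ 0) :
    Nat.card {x : PicMod c m // n • x = 0 ∧ picModToPic c m x = 0} = n ^ (m.support.card - 1) := by
  classical
  haveI : NeZero n := ⟨by omega⟩
  haveI : NeZero (n : k) := ⟨hnk⟩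
  let ι := (m.support : Finset _)
  let inc : (ι → rootsOfUnity n k) →* (ι → kˣ) :=
    { toFun := fun v x => (v x : kˣ), map_one' := rfl, map_mul' := fun _ _ => rfl }
  let Φ : (ι → rootsOfUnity n k) →* Multiplicative (PicMod c m) := (valHom hdim hm).comp inc
  have hrange : ∀ x : PicMod c m,
      (n • x = 0 ∧ picModToPic c m x = 0) ↔ Multiplicative.ofAdd x ∈ Φ.range := by
    intro x
    constructor
    · rintro ⟨hx, hx0⟩
      obtain ⟨v, rfl⟩ := exists_valClass hdim hm hx0
      have hv : valHom hdim hm ((fun y => v y.1) ^ n : ι → kˣ) = 1 := by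
        rw [map_pow]
        have : valHom hdim hm (fun y : ι => v y.1) = Multiplicative.ofAdd (valClass hdim v) :=
          congrArg Multiplicative.ofAdd (valClass_congr hdim hm fun y hy => by simp [ι, hy])
        rw [this, ← ofAdd_nsmul, hx, ofAdd_zero]
      obtain ⟨a, ha⟩ := (valHom_eq_zero_iff hdim hm _).1 hv
      obtain ⟨b, hb⟩ := IsAlgClosed.exists_pow_nat_eq (a : k) (n := n) hn
      have hb0 : b ≠ 0 := fun e => a.ne_zero (by rw [← hb, e, zero_pow (by omega)])
      let B : kˣ := Units.mk0 b hb0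
      have hB : B ^ n = a := Units.ext hb
      refine ⟨fun y => ⟨v y.1 / B, (mem_rootsOfUnity n _).2 ?_⟩, ?_⟩
      · rw [div_pow, hB]
        have := ha y
        rw [Pi.pow_apply] at this
        rw [this, div_self']
      · show valHom hdim hm (fun y : ι => v y.1 / B) = _
        have h1 : (fun y : ι => v y.1 / B) = (fun y : ι => v y.1) * (fun _ => B⁻¹) := by
          funext y; simp [div_eq_mul_inv]
        rw [h1, map_mul, (valHom_eq_zero_iff hdim hm _).2 ⟨B⁻¹, fun _ => rfl⟩, mul_one]
        exact congrArg Multiplicative.ofAdd (valClass_congr hdim hm fun y hy => by simp [ι, hy])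
    · rintro ⟨v, hv⟩
      have hvx : x = valClass hdim (fun y => if h : y ∈ m.support then (v ⟨y, h⟩ : kˣ) else 1) :=
        (Multiplicative.ofAdd.injective (show Multiplicative.ofAdd (valClass hdim fun y =>
          if h : y ∈ m.support then (v ⟨y, h⟩ : kˣ) else 1) = Multiplicative.ofAdd x from hv)).symm
      refine ⟨Multiplicative.ofAdd.injective ?_, hvx ▸ map_valClass hdim hm _⟩
      rw [ofAdd_nsmul, ← hv, ← map_pow, ofAdd_zero]
      have : v ^ n = 1 := funext fun y => Subtype.ext ((mem_rootsOfUnity n _).1 (v y).2)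
      rw [this, map_one]
  let eqv : {x : PicMod c m // n • x = 0 ∧ picModToPic c m x = 0} ≃ Φ.range :=
    (Multiplicative.ofAdd (α := PicMod c m)).subtypeEquiv hrange
  rw [Nat.card_congr eqv]
  have hker : Nat.card Φ.ker = if ι.card = 0 then 1 else n := by
    split_ifs with h0
    · have : IsEmpty ι := Finset.isEmpty_coe_sort.2 (Finset.card_eq_zero.1 h0)
      exact Nat.card_unique
    · obtain ⟨x₀, hx₀⟩ := Finset.card_pos.1 (Nat.pos_of_ne_zero h0)
      refine Eq.trans ?_ (HasEnoughRootsOfUnity.natCard_rootsOfUnity k n)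
      refine Nat.card_congr ⟨fun v => v.1 ⟨x₀, hx₀⟩, fun a => ⟨fun _ => a, ?_⟩, fun v => ?_, fun a => rfl⟩
      · exact (valHom_eq_zero_iff hdim hm _).2 ⟨(a : kˣ), fun _ => rfl⟩
      · obtain ⟨a, ha⟩ := (valHom_eq_zero_iff hdim hm _).1 v.2
        exact Subtype.ext (funext fun y => Subtype.ext ((ha ⟨x₀, hx₀⟩).trans (ha y).symm))
  have htot : Nat.card (ι → rootsOfUnity n k) = n ^ ι.card := by
    rw [Nat.card_fun, HasEnoughRootsOfUnity.natCard_rootsOfUnity k n, Nat.card_eq_finsetCard]
  have hmul : Nat.card Φ.range * Nat.card Φ.ker = n ^ ι.card := by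
    rw [← htot, ← Nat.card_congr (QuotientGroup.quotientKerEquivRange Φ).toEquiv]
    exact (Subgroup.card_eq_card_quotient_mul_card_subgroup _).symm
  rw [hker] at hmul
  rcases Nat.eq_zero_or_pos ι.card with h0 | h0
  · rw [if_pos h0, mul_one, h0] at hmul
    show _ = n ^ (ι.card - 1)
    rw [hmul, h0]
  · rw [if_neg h0.ne', ← Nat.sub_add_cancel h0, pow_succ] at hmul
    exact Nat.eq_of_mul_eq_mul_right hn hmul

end Groth.Agent.LocSymLib
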